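import Groth.Agent.Lib.DCxRing.Basic
import Mathlib.LinearAlgebra.Trace
import Mathlib.Algebra.Ring.NegOnePow
import Mathlib.Order.Interval.Finset.Basic
import Mathlib.Data.Int.Interval

/-!
# Alternating traces are invariant in the derived category
-/

universe u

open CategoryTheory

attribute [local instance] HasDerivedCategory.standard

namespace GrothLib.AltTrace

variable {A : Type u} [CommRing A]

theorem telescope {M : Type*} [AddCommGroup M] (T : ℤ → M) (a : ℤ) :
    ∀ b, a - 1 ≤ b → ∑ i ∈ Finset.Icc a b, ((i.negOnePow : ℤˣ) : ℤ) • (T i + T (i - 1)) =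
      ((b.negOnePow : ℤˣ) : ℤ) • T b + ((a.negOnePow : ℤˣ) : ℤ) • T (a - 1) := by
  intro b hb
  induction b, hb using Int.le_induction with
  | base =>
    rw [Finset.Icc_eq_empty (by omega), Finset.sum_empty, ← add_smul]
    have : ((a - 1).negOnePow : ℤˣ) = -a.negOnePow := by
      rw [show a = a - 1 + 1 by ring, Int.negOnePow_succ, neg_neg]
      simp
    simp [this]
  | succ b hb ih =>
    rw [← Finset.insert_Icc_right_eq_Icc_add_one (by omega), Finset.sum_insert (by simp), ih,
      add_sub_cancel_right, Int.negOnePow_succ, Units.val_neg, neg_smul, smul_add, neg_smul]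
    abel

/-- The alternating trace of an endomorphism. -/
noncomputable def alt (P : DRing.Cx A) (a b : ℤ) (u : P ⟶ P) : A :=
  ∑ i ∈ Finset.Icc a b, ((i.negOnePow : ℤˣ) : ℤ) • LinearMap.trace A (P.X i) (u.f i).hom

theorem alt_eq_of_homotopy {P : DRing.Cx A} {a b : ℤ} (hP : DRing.VanishesOutside P a b)
    (hf : DRing.TermwiseFiniteFree P) {u u' : P ⟶ P} (h : Homotopy u u') : alt P a b u = alt P a b u' := by
  have hFin := fun i => (hf i).1
  have hFree := fun i => (hf i).2
  let T : ℤ → A := fun i => LinearMap.trace A (P.X i) ((h.hom (i + 1) i).hom ∘ₗ (P.d i (i + 1)).hom)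
  have key : ∀ i, LinearMap.trace A (P.X i) (u.f i).hom =
      LinearMap.trace A (P.X i) (u'.f i).hom + (T i + T (i - 1)) := by
    intro i
    have hcom := h.comm i
    rw [dNext_eq h.hom (show (ComplexShape.up ℤ).Rel i (i + 1) from rfl),
      prevD_eq h.hom (show (ComplexShape.up ℤ).Rel (i - 1) i from Int.sub_add_cancel i 1)] at hcom
    rw [hcom, ModuleCat.hom_add, ModuleCat.hom_add, ModuleCat.hom_comp, ModuleCat.hom_comp, map_add, map_add,
      LinearMap.trace_comp_comm' (h.hom i (i - 1)).hom (P.d (i - 1) i).hom]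
    have hT : T (i - 1) = LinearMap.trace A (P.X (i - 1)) ((h.hom i (i - 1)).hom ∘ₗ (P.d (i - 1) i).hom) := by
      simp only [T]
      rw [sub_add_cancel]
    rw [hT]
    ring
  have hz : ∀ i, (i < a ∨ b < i) → ∀ v : P.X i →ₗ[A] P.X i, LinearMap.trace A (P.X i) v = 0 := fun i hi v => by
    have := ModuleCat.subsingleton_of_isZero (hP i hi)
    rw [Subsingleton.elim v 0, map_zero]
  rcases lt_or_ge b (a - 1) with hab | hab
  · simp [alt, Finset.Icc_eq_empty (show ¬ a ≤ b by omega)]
  have h1 : T (a - 1) = 0 := hz _ (Or.inl (by omega)) _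
  have h2 : T b = 0 := by
    have := ModuleCat.subsingleton_of_isZero (hP (b + 1) (Or.inr (by omega)))
    simp only [T, Subsingleton.elim (P.d b (b + 1)).hom 0, LinearMap.comp_zero, map_zero]
  simp only [alt, key, smul_add, Finset.sum_add_distrib]
  rw [← Finset.sum_add_distrib]
  simp only [← smul_add]
  rw [telescope T a b hab, h1, h2]
  simp

theorem alt_eq_of_iso {P Q : DRing.Cx A} {a b : ℤ} (hP : DRing.VanishesOutside P a b)
    (hQ : DRing.VanishesOutside Q a b) (hPf : DRing.TermwiseFiniteFree P) (hQf : DRing.TermwiseFiniteFree Q)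
    (f : P ⟶ P) (g : Q ⟶ Q) (α : DRing.toD P ≅ DRing.toD Q)
    (h : α.hom ≫ DerivedCategory.Q.map g = DerivedCategory.Q.map f ≫ α.hom) : alt P a b f = alt Q a b g := by
  have := DR.isKProjective P b (fun i hi => hP i (Or.inr hi)) (DR.projective_of_finiteFree hPf)
  have := DR.isKProjective Q b (fun i hi => hQ i (Or.inr hi)) (DR.projective_of_finiteFree hQf)
  obtain ⟨x, hx⟩ := DR.exists_lift P α.hom
  obtain ⟨y, hy⟩ := DR.exists_lift Q α.inv
  obtain ⟨h1⟩ := (DR.map_eq_iff P f (x ≫ g ≫ y)).1 (by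
    rw [Functor.map_comp, Functor.map_comp, hx, hy, ← Category.assoc, h, Category.assoc, α.hom_inv_id,
      Category.comp_id])
  obtain ⟨h2⟩ := (DR.map_eq_iff Q (g ≫ y ≫ x) g).1 (by
    rw [Functor.map_comp, Functor.map_comp, hx, hy, α.inv_hom_id, Category.comp_id])
  rw [alt_eq_of_homotopy hP hPf h1, ← alt_eq_of_homotopy hQ hQf h2]
  have hFin := fun i => (hPf i).1
  have hFree := fun i => (hPf i).2
  have hFin' := fun i => (hQf i).1
  have hFree' := fun i => (hQf i).2
  refine Finset.sum_congr rfl fun i _ => ?_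
  simp only [HomologicalComplex.comp_f, ModuleCat.hom_comp]
  rw [LinearMap.trace_comp_comm' (x.f i).hom ((y.f i).hom ∘ₗ (g.f i).hom), LinearMap.comp_assoc]

end GrothLib.AltTrace
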